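import Mathlib

/-!
Data for the centraliser of an involution of Co2: the roots of the fixed lattice, a symplectic basis, and two automorphisms.
-/

set_option autoImplicit false

namespace Cfsg.Lib.Co2Invol

/-- The positions of the octad. -/
def oList : List ℕ := [0, 1, 2, 3, 5, 14, 17, 23]

/-- The fixed roots orthogonal to the fixed vector, followed by that vector. -/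
def rootList : List (List ℤ) := [
  [-4, 0, 0, 0, 0, 0, 0, 4],
  [-2, -2, -2, -2, -2, -2, 2, 2],
  [-2, -2, -2, -2, -2, 2, -2, 2],
  [-2, -2, -2, -2, 2, -2, -2, 2],
  [-2, -2, -2, -2, 2, 2, 2, 2],
  [-2, -2, -2, 2, -2, -2, -2, 2],
  [-2, -2, -2, 2, -2, 2, 2, 2],
  [-2, -2, -2, 2, 2, -2, 2, 2],
  [-2, -2, -2, 2, 2, 2, -2, 2],
  [-2, -2, 2, -2, -2, -2, -2, 2],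
  [-2, -2, 2, -2, -2, 2, 2, 2],
  [-2, -2, 2, -2, 2, -2, 2, 2],
  [-2, -2, 2, -2, 2, 2, -2, 2],
  [-2, -2, 2, 2, -2, -2, 2, 2],
  [-2, -2, 2, 2, -2, 2, -2, 2],
  [-2, -2, 2, 2, 2, -2, -2, 2],
  [-2, -2, 2, 2, 2, 2, 2, 2],
  [-2, 2, -2, -2, -2, -2, -2, 2],
  [-2, 2, -2, -2, -2, 2, 2, 2],
  [-2, 2, -2, -2, 2, -2, 2, 2],
  [-2, 2, -2, -2, 2, 2, -2, 2],
  [-2, 2, -2, 2, -2, -2, 2, 2],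
  [-2, 2, -2, 2, -2, 2, -2, 2],
  [-2, 2, -2, 2, 2, -2, -2, 2],
  [-2, 2, -2, 2, 2, 2, 2, 2],
  [-2, 2, 2, -2, -2, -2, 2, 2],
  [-2, 2, 2, -2, -2, 2, -2, 2],
  [-2, 2, 2, -2, 2, -2, -2, 2],
  [-2, 2, 2, -2, 2, 2, 2, 2],
  [-2, 2, 2, 2, -2, -2, -2, 2],
  [-2, 2, 2, 2, -2, 2, 2, 2],
  [-2, 2, 2, 2, 2, -2, 2, 2],
  [-2, 2, 2, 2, 2, 2, -2, 2],
  [0, -4, -4, 0, 0, 0, 0, 0],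
  [0, -4, 0, -4, 0, 0, 0, 0],
  [0, -4, 0, 0, -4, 0, 0, 0],
  [0, -4, 0, 0, 0, -4, 0, 0],
  [0, -4, 0, 0, 0, 0, -4, 0],
  [0, -4, 0, 0, 0, 0, 4, 0],
  [0, -4, 0, 0, 0, 4, 0, 0],
  [0, -4, 0, 0, 4, 0, 0, 0],
  [0, -4, 0, 4, 0, 0, 0, 0],
  [0, -4, 4, 0, 0, 0, 0, 0],
  [0, 0, -4, -4, 0, 0, 0, 0],
  [0, 0, -4, 0, -4, 0, 0, 0],
  [0, 0, -4, 0, 0, -4, 0, 0],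
  [0, 0, -4, 0, 0, 0, -4, 0],
  [0, 0, -4, 0, 0, 0, 4, 0],
  [0, 0, -4, 0, 0, 4, 0, 0],
  [0, 0, -4, 0, 4, 0, 0, 0],
  [0, 0, -4, 4, 0, 0, 0, 0],
  [0, 0, 0, -4, -4, 0, 0, 0],
  [0, 0, 0, -4, 0, -4, 0, 0],
  [0, 0, 0, -4, 0, 0, -4, 0],
  [0, 0, 0, -4, 0, 0, 4, 0],
  [0, 0, 0, -4, 0, 4, 0, 0],
  [0, 0, 0, -4, 4, 0, 0, 0],
  [0, 0, 0, 0, -4, -4, 0, 0],
  [0, 0, 0, 0, -4, 0, -4, 0],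
  [0, 0, 0, 0, -4, 0, 4, 0],
  [0, 0, 0, 0, -4, 4, 0, 0],
  [0, 0, 0, 0, 0, -4, -4, 0],
  [0, 0, 0, 0, 0, -4, 4, 0],
  [0, 0, 0, 0, 0, 4, -4, 0],
  [0, 0, 0, 0, 0, 4, 4, 0],
  [0, 0, 0, 0, 4, -4, 0, 0],
  [0, 0, 0, 0, 4, 0, -4, 0],
  [0, 0, 0, 0, 4, 0, 4, 0],
  [0, 0, 0, 0, 4, 4, 0, 0],
  [0, 0, 0, 4, -4, 0, 0, 0],
  [0, 0, 0, 4, 0, -4, 0, 0],
  [0, 0, 0, 4, 0, 0, -4, 0],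
  [0, 0, 0, 4, 0, 0, 4, 0],
  [0, 0, 0, 4, 0, 4, 0, 0],
  [0, 0, 0, 4, 4, 0, 0, 0],
  [0, 0, 4, -4, 0, 0, 0, 0],
  [0, 0, 4, 0, -4, 0, 0, 0],
  [0, 0, 4, 0, 0, -4, 0, 0],
  [0, 0, 4, 0, 0, 0, -4, 0],
  [0, 0, 4, 0, 0, 0, 4, 0],
  [0, 0, 4, 0, 0, 4, 0, 0],
  [0, 0, 4, 0, 4, 0, 0, 0],
  [0, 0, 4, 4, 0, 0, 0, 0],
  [0, 4, -4, 0, 0, 0, 0, 0],
  [0, 4, 0, -4, 0, 0, 0, 0],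
  [0, 4, 0, 0, -4, 0, 0, 0],
  [0, 4, 0, 0, 0, -4, 0, 0],
  [0, 4, 0, 0, 0, 0, -4, 0],
  [0, 4, 0, 0, 0, 0, 4, 0],
  [0, 4, 0, 0, 0, 4, 0, 0],
  [0, 4, 0, 0, 4, 0, 0, 0],
  [0, 4, 0, 4, 0, 0, 0, 0],
  [0, 4, 4, 0, 0, 0, 0, 0],
  [2, -2, -2, -2, -2, -2, 2, -2],
  [2, -2, -2, -2, -2, 2, -2, -2],
  [2, -2, -2, -2, 2, -2, -2, -2],
  [2, -2, -2, -2, 2, 2, 2, -2],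
  [2, -2, -2, 2, -2, -2, -2, -2],
  [2, -2, -2, 2, -2, 2, 2, -2],
  [2, -2, -2, 2, 2, -2, 2, -2],
  [2, -2, -2, 2, 2, 2, -2, -2],
  [2, -2, 2, -2, -2, -2, -2, -2],
  [2, -2, 2, -2, -2, 2, 2, -2],
  [2, -2, 2, -2, 2, -2, 2, -2],
  [2, -2, 2, -2, 2, 2, -2, -2],
  [2, -2, 2, 2, -2, -2, 2, -2],
  [2, -2, 2, 2, -2, 2, -2, -2],
  [2, -2, 2, 2, 2, -2, -2, -2],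
  [2, -2, 2, 2, 2, 2, 2, -2],
  [2, 2, -2, -2, -2, -2, -2, -2],
  [2, 2, -2, -2, -2, 2, 2, -2],
  [2, 2, -2, -2, 2, -2, 2, -2],
  [2, 2, -2, -2, 2, 2, -2, -2],
  [2, 2, -2, 2, -2, -2, 2, -2],
  [2, 2, -2, 2, -2, 2, -2, -2],
  [2, 2, -2, 2, 2, -2, -2, -2],
  [2, 2, -2, 2, 2, 2, 2, -2],
  [2, 2, 2, -2, -2, -2, 2, -2],
  [2, 2, 2, -2, -2, 2, -2, -2],
  [2, 2, 2, -2, 2, -2, -2, -2],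
  [2, 2, 2, -2, 2, 2, 2, -2],
  [2, 2, 2, 2, -2, -2, -2, -2],
  [2, 2, 2, 2, -2, 2, 2, -2],
  [2, 2, 2, 2, 2, -2, 2, -2],
  [2, 2, 2, 2, 2, 2, -2, -2],
  [4, 0, 0, 0, 0, 0, 0, -4],
  [4, 0, 0, 0, 0, 0, 0, 4]]

/-- The symplectic basis among the roots. -/
def basisList : List ℕ := [0, 37, 49, 1, 39, 50]

/-- The pairing of a root with the basis, one bit for each basis member. -/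
def sigTab : List ℕ := [8, 1, 27, 15, 29, 43, 57, 45, 55, 47, 61, 41, 51, 13, 23, 3, 17, 25, 11, 31, 5, 59, 33, 53, 39, 63, 37, 49, 35, 21, 7, 19, 9, 62, 58, 30, 10, 16, 24, 2, 22, 50, 54, 12, 40, 60, 38, 46, 52, 32, 4, 44, 56, 34, 42, 48, 36, 28, 6, 14, 20, 18, 26, 26, 18, 20, 14, 6, 28, 36, 48, 42, 34, 56, 44, 4, 32, 52, 46, 38, 60, 40, 12, 54, 50, 22, 2, 24, 16, 10, 30, 58, 62, 9, 19, 7, 21, 35, 49, 37, 63, 39, 53, 33, 59, 5, 31, 11, 25, 17, 3, 23, 13, 51, 41, 61, 47, 55, 45, 57, 43, 29, 15, 27, 1, 8]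

/-- Two listed vectors with sum eight times a unit vector. -/
def eightPairs : List (ℕ × ℕ) := [(125, 126), (83, 92), (42, 92), (41, 91), (40, 90), (39, 89), (38, 88), (0, 126)]

/-- The code words off the octad. -/
def kCodes : List ℕ := [0, 6889680, 4038912, 5538256, 832080, 6656640, 3216208, 5780352, 6100032, 3421328, 6337856, 628112, 5350928, 3704512, 7079696, 337856, 7903248, 1161408, 4536592, 2890176, 7612992, 1903248, 4819776, 2141072, 2460752, 5024896, 1584464, 7409024, 2702848, 4202192, 1351424, 8241104]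

/-- Matrices inducing the two generators of the symplectic group. -/
def genMatList : List (List (List ℤ)) := [[
  [4, 0, -4, 0, 0, 0, 0, 0, 0, 0, 0, 0, 0, 0, -4, 0, 0, 0, 0, 0, 0, 0, 0, 4],
  [0, 4, 0, 4, 0, -4, 0, 0, 0, 0, 0, 0, 0, 0, 0, 0, 0, -4, 0, 0, 0, 0, 0, 0],
  [-4, 0, -4, 0, 0, 0, 0, 0, 0, 0, 0, 0, 0, 0, 4, 0, 0, 0, 0, 0, 0, 0, 0, 4],
  [0, 4, 0, -4, 0, 4, 0, 0, 0, 0, 0, 0, 0, 0, 0, 0, 0, -4, 0, 0, 0, 0, 0, 0],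
  [0, 0, 0, 0, 0, 0, 0, 0, 0, 0, 0, 4, 0, 0, 0, 0, 0, 0, 0, 0, 4, 4, 4, 0],
  [0, -4, 0, 4, 0, 4, 0, 0, 0, 0, 0, 0, 0, 0, 0, 0, 0, -4, 0, 0, 0, 0, 0, 0],
  [0, 0, 0, 0, -4, 0, 0, 0, 0, 0, 0, 0, 4, 0, 0, 4, 0, 0, 0, -4, 0, 0, 0, 0],
  [0, 0, 0, 0, 0, 0, -4, 0, 0, 4, 0, 0, 0, -4, 0, 0, 0, 0, 4, 0, 0, 0, 0, 0],
  [0, 0, 0, 0, 0, 0, -4, 0, 0, -4, 0, 0, 0, 4, 0, 0, 0, 0, 4, 0, 0, 0, 0, 0],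
  [0, 0, 0, 0, -4, 0, 0, 0, 0, 0, 0, 0, -4, 0, 0, -4, 0, 0, 0, -4, 0, 0, 0, 0],
  [0, 0, 0, 0, 0, 0, 4, 0, 0, 4, 0, 0, 0, 4, 0, 0, 0, 0, 4, 0, 0, 0, 0, 0],
  [0, 0, 0, 0, 0, 0, 0, 4, -4, 0, -4, 0, 0, 0, 0, 0, 4, 0, 0, 0, 0, 0, 0, 0],
  [0, 0, 0, 0, 0, 0, 0, 0, 0, 0, 0, -4, 0, 0, 0, 0, 0, 0, 0, 0, -4, 4, 4, 0],
  [0, 0, 0, 0, 4, 0, 0, 0, 0, 0, 0, 0, -4, 0, 0, 4, 0, 0, 0, -4, 0, 0, 0, 0],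
  [-4, 0, 4, 0, 0, 0, 0, 0, 0, 0, 0, 0, 0, 0, -4, 0, 0, 0, 0, 0, 0, 0, 0, 4],
  [0, 0, 0, 0, 0, 0, 0, 0, 0, 0, 0, 4, 0, 0, 0, 0, 0, 0, 0, 0, -4, 4, -4, 0],
  [0, 0, 0, 0, 0, 0, 4, 0, 0, -4, 0, 0, 0, -4, 0, 0, 0, 0, 4, 0, 0, 0, 0, 0],
  [0, -4, 0, -4, 0, -4, 0, 0, 0, 0, 0, 0, 0, 0, 0, 0, 0, -4, 0, 0, 0, 0, 0, 0],
  [0, 0, 0, 0, 4, 0, 0, 0, 0, 0, 0, 0, 4, 0, 0, -4, 0, 0, 0, -4, 0, 0, 0, 0],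
  [0, 0, 0, 0, 0, 0, 0, 0, 0, 0, 0, -4, 0, 0, 0, 0, 0, 0, 0, 0, 4, 4, -4, 0],
  [0, 0, 0, 0, 0, 0, 0, -4, -4, 0, 4, 0, 0, 0, 0, 0, 4, 0, 0, 0, 0, 0, 0, 0],
  [0, 0, 0, 0, 0, 0, 0, 4, -4, 0, 4, 0, 0, 0, 0, 0, -4, 0, 0, 0, 0, 0, 0, 0],
  [0, 0, 0, 0, 0, 0, 0, -4, -4, 0, -4, 0, 0, 0, 0, 0, -4, 0, 0, 0, 0, 0, 0, 0],
  [4, 0, 4, 0, 0, 0, 0, 0, 0, 0, 0, 0, 0, 0, 4, 0, 0, 0, 0, 0, 0, 0, 0, 4]],[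
  [8, 0, 0, 0, 0, 0, 0, 0, 0, 0, 0, 0, 0, 0, 0, 0, 0, 0, 0, 0, 0, 0, 0, 0],
  [0, 0, 0, 0, 0, 0, 0, 0, 0, 0, 0, 0, 0, 0, 8, 0, 0, 0, 0, 0, 0, 0, 0, 0],
  [0, 0, 0, 0, 0, -8, 0, 0, 0, 0, 0, 0, 0, 0, 0, 0, 0, 0, 0, 0, 0, 0, 0, 0],
  [0, 0, 0, 8, 0, 0, 0, 0, 0, 0, 0, 0, 0, 0, 0, 0, 0, 0, 0, 0, 0, 0, 0, 0],
  [0, 0, 0, 0, 0, 0, 0, 0, 0, 0, 0, 0, 0, 0, 0, 0, 0, 0, -8, 0, 0, 0, 0, 0],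
  [0, -8, 0, 0, 0, 0, 0, 0, 0, 0, 0, 0, 0, 0, 0, 0, 0, 0, 0, 0, 0, 0, 0, 0],
  [0, 0, 0, 0, 0, 0, 8, 0, 0, 0, 0, 0, 0, 0, 0, 0, 0, 0, 0, 0, 0, 0, 0, 0],
  [0, 0, 0, 0, 0, 0, 0, 0, 0, 0, 0, 0, 0, 0, 0, 0, 0, 0, 0, 0, 0, 8, 0, 0],
  [0, 0, 0, 0, -8, 0, 0, 0, 0, 0, 0, 0, 0, 0, 0, 0, 0, 0, 0, 0, 0, 0, 0, 0],
  [0, 0, 0, 0, 0, 0, 0, 0, 0, 0, 0, 0, 0, -8, 0, 0, 0, 0, 0, 0, 0, 0, 0, 0],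
  [0, 0, 0, 0, 0, 0, 0, 0, 0, 0, 0, 0, 0, 0, 0, 0, 0, 0, 0, 0, 0, 0, -8, 0],
  [0, 0, 0, 0, 0, 0, 0, 0, 0, 0, 0, 0, 0, 0, 0, 0, 0, 0, 0, 0, 8, 0, 0, 0],
  [0, 0, 0, 0, 0, 0, 0, 0, 0, -8, 0, 0, 0, 0, 0, 0, 0, 0, 0, 0, 0, 0, 0, 0],
  [0, 0, 0, 0, 0, 0, 0, 8, 0, 0, 0, 0, 0, 0, 0, 0, 0, 0, 0, 0, 0, 0, 0, 0],
  [0, 0, 0, 0, 0, 0, 0, 0, 0, 0, 0, 0, 0, 0, 0, 0, 0, -8, 0, 0, 0, 0, 0, 0],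
  [0, 0, 0, 0, 0, 0, 0, 0, 0, 0, -8, 0, 0, 0, 0, 0, 0, 0, 0, 0, 0, 0, 0, 0],
  [0, 0, 0, 0, 0, 0, 0, 0, 0, 0, 0, 0, 0, 0, 0, 0, 0, 0, 0, 8, 0, 0, 0, 0],
  [0, 0, -8, 0, 0, 0, 0, 0, 0, 0, 0, 0, 0, 0, 0, 0, 0, 0, 0, 0, 0, 0, 0, 0],
  [0, 0, 0, 0, 0, 0, 0, 0, 0, 0, 0, 0, 0, 0, 0, 0, -8, 0, 0, 0, 0, 0, 0, 0],
  [0, 0, 0, 0, 0, 0, 0, 0, -8, 0, 0, 0, 0, 0, 0, 0, 0, 0, 0, 0, 0, 0, 0, 0],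
  [0, 0, 0, 0, 0, 0, 0, 0, 0, 0, 0, 0, 0, 0, 0, 8, 0, 0, 0, 0, 0, 0, 0, 0],
  [0, 0, 0, 0, 0, 0, 0, 0, 0, 0, 0, 0, 8, 0, 0, 0, 0, 0, 0, 0, 0, 0, 0, 0],
  [0, 0, 0, 0, 0, 0, 0, 0, 0, 0, 0, 8, 0, 0, 0, 0, 0, 0, 0, 0, 0, 0, 0, 0],
  [0, 0, 0, 0, 0, 0, 0, 0, 0, 0, 0, 0, 0, 0, 0, 0, 0, 0, 0, 0, 0, 0, 0, 8]]]

end Cfsg.Lib.Co2Invol
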