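import Cfsg.Agent.Lib.Co2Invol.Roots
import Cfsg.Agent.Lib.SpSix.Symp

/-!
The homomorphism from the centraliser of an involution of Co2 to the symplectic group, and its kernel.
-/

set_option autoImplicit false

namespace Cfsg.Lib.Co2Invol

open Cfsg Cfsg.Lib.Concrete Finset
open scoped Pointwise

theorem compl_code : mset 8241104 ∈ codeSets := (mset_mem_supports_iff (by decide)).2 (by decide +kernel)

/-- The sign change off the base octad. -/
noncomputable def tZero : Co0 := monoCo0 1 (one_mem _) (mset 8241104) compl_code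

theorem off_iff : ∀ p : GolayPt, p ∈ mset 8241104 ↔ p ∉ baseOctad := by decide +kernel

theorem tZero_smul (v : leechLattice) (p : GolayPt) :
    ((tZero • v : leechLattice) : GolayPt → ℤ) p = if p ∈ baseOctad then (v : GolayPt → ℤ) p else -(v : GolayPt → ℤ) p := by
  rw [tZero, monoCo0_smul, signedPerm]
  by_cases h : p ∈ baseOctad
  · rw [if_neg (fun e => (off_iff p).1 e h), if_pos h]; rfl
  · rw [if_pos ((off_iff p).2 h), if_neg h]; rfl

theorem vl_u_off : ∀ p : GolayPt, p ∉ baseOctad → Spor.vecU p = 0 := by decide +kernel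

theorem fix_of_off {v : leechLattice} (h : ∀ p ∉ baseOctad, (v : GolayPt → ℤ) p = 0) : tZero • v = v := by
  refine Subtype.ext (funext fun p => ?_)
  rw [tZero_smul]
  split
  · rfl
  · rename_i hp; rw [h p hp, neg_zero]

/-- The involution. -/
noncomputable def tTwo : ↥Spor.Co2 :=
  ⟨(tZero : Equiv.Perm leechLattice), tZero.2, fix_of_off (v := Spor.leechU) vl_u_off⟩

/-- The centraliser. -/
abbrev Cent : Subgroup ↥Spor.Co2 := Subgroup.centralizer {tTwo}

/-- A member of the centraliser as an automorphism of the lattice. -/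
noncomputable def co : Cent →* Co0 :=
  ((Subgroup.inclusion (inf_le_left : Spor.Co2 ≤ Co0)).comp Cent.subtype)

theorem co_injective : Function.Injective co := by
  intro a b h
  have h' : (co a : Equiv.Perm leechLattice) = co b := congrArg Subtype.val h
  exact Subtype.ext (Subtype.ext h')

theorem co_smul_u (g : Cent) : co g • Spor.leechU = Spor.leechU := g.1.2.2

theorem co_comm (g : Cent) : co g * tZero = tZero * co g := by
  have := Subgroup.mem_centralizer_iff.1 g.2 tTwo rfl
  have h' : ((g.1 : Spor.Co2) : Equiv.Perm leechLattice) * tTwo = tTwo * g.1 := (congrArg Subtype.val this).symm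
  exact Subtype.ext h'

theorem exists_cent {g : Co0} (hu : g • Spor.leechU = Spor.leechU) (hc : g * tZero = tZero * g) :
    ∃ a : Cent, co a = g := by
  refine ⟨⟨⟨(g : Equiv.Perm leechLattice), g.2, hu⟩, Subgroup.mem_centralizer_iff.2 ?_⟩, rfl⟩
  rintro h rfl
  exact (Subtype.ext (show (tTwo : Equiv.Perm leechLattice) * g = g * tTwo from congrArg Subtype.val hc.symm))

theorem co_off (g : Cent) {v : leechLattice} (h : ∀ p ∉ baseOctad, (v : GolayPt → ℤ) p = 0) :
    ∀ p ∉ baseOctad, ((co g • v : leechLattice) : GolayPt → ℤ) p = 0 := by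
  intro p hp
  have e : tZero • co g • v = co g • v := by rw [smul_smul, ← co_comm, ← smul_smul, fix_of_off h]
  have := congrFun (congrArg Subtype.val e) p
  rw [tZero_smul, if_neg hp] at this
  omega

theorem root_off (i : Fin 126) : ∀ p ∉ baseOctad, (root i : GolayPt → ℤ) p = 0 :=
  fun _ hp => vext_off (vl_length i.castSucc) hp

theorem image_root (g : Cent) (i : Fin 126) : ∃ j, co g • root i = root j := by
  have hl := vl_length i.castSucc
  refine root_complete (co_off g (root_off i)) ?_ ?_
  · rw [co0_sqNorm, root_val, sqNorm]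
    exact (Finset.sum_congr rfl fun p _ => sq _).trans ((dot_vext hl hl).trans (root_norm i).1)
  · have h := co0_dot (co g) (root i) Spor.leechU
    rw [co_smul_u] at h
    refine h.trans ?_
    rw [root_val, show ((Spor.leechU : leechLattice) : GolayPt → ℤ) = Spor.vecU from rfl, vecU_eq]
    exact (dot_vext hl (vl_length (Fin.last 126))).trans (root_norm i).2

/-- The image of a root. -/
noncomputable def img (g : Cent) (i : Fin 126) : Fin 126 := (image_root g i).choose

theorem img_spec (g : Cent) (i : Fin 126) : co g • root i = root (img g i) := (image_root g i).choose_spec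

theorem bz_smul (g : Cent) (x y : leechLattice) : bz (co g • x) (co g • y) = bz x y := by rw [bz, co0_dot, bz]

/-- The dual index. -/
def dual : Fin 3 ⊕ Fin 3 → Fin 3 ⊕ Fin 3 := Sum.swap

theorem bz_sum (i j : Fin 126) :
    bz (root i) (root j) = ∑ k, sg i (ix k) * sg j (ix (dual k)) := by
  rw [bz_expand, Fintype.sum_sum_type, Fin.sum_univ_three, Fin.sum_univ_three]
  simp only [dual, Sum.swap_inl, Sum.swap_inr, ix, Sum.elim_inl, Sum.elim_inr]
  show _ = sg i 0 * sg j 3 + sg i 1 * sg j 4 + sg i 2 * sg j 5 + (sg i 3 * sg j 0 + sg i 4 * sg j 1 + sg i 5 * sg j 2)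
  ring

/-- The matrix of a member of the centraliser. -/
noncomputable def mat (g : Cent) : Matrix (Fin 3 ⊕ Fin 3) (Fin 3 ⊕ Fin 3) (ZMod 2) :=
  Matrix.of fun r c => sg (img g (bI (ix c))) (ix (dual r))

theorem mat_apply (g : Cent) (r c : Fin 3 ⊕ Fin 3) : mat g r c = sg (img g (bI (ix c))) (ix (dual r)) := rfl

theorem mat_entry (g : Cent) (r c : Fin 3 ⊕ Fin 3) :
    mat g r c = bz (co g • root (bI (ix c))) (root (bI (ix (dual r)))) := by
  rw [mat_apply, img_spec, bz_root_basis]

theorem img_mul (g h : Cent) (i : Fin 126) : root (img (g * h) i) = root (img g (img h i)) := by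
  rw [← img_spec, map_mul, mul_smul, img_spec, img_spec]

theorem sg_img (g : Cent) (i : Fin 126) (r : Fin 3 ⊕ Fin 3) :
    sg (img g i) (ix (dual r)) = ∑ k, mat g r k * sg i (ix (dual k)) := by
  rw [← bz_root_basis, ← img_spec]
  have h : bz (co g • root i) (root (bI (ix (dual r)))) = bz (root i) (co g⁻¹ • root (bI (ix (dual r)))) := by
    rw [← bz_smul g⁻¹ (co g • root i), smul_smul, ← map_mul, inv_mul_cancel, map_one, one_smul]
  rw [h, img_spec, bz_sum]
  rw [← Equiv.sum_comp (Equiv.sumComm (Fin 3) (Fin 3))]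
  refine Finset.sum_congr rfl fun k _ => ?_
  rw [mat_entry, ← bz_smul g⁻¹, smul_smul, ← map_mul, inv_mul_cancel, map_one, one_smul, img_spec,
    bz_comm, bz_root_basis, mul_comm]
  simp [dual]

theorem mat_mul (g h : Cent) : mat (g * h) = mat g * mat h := by
  refine Matrix.ext fun r c => ?_
  rw [Matrix.mul_apply, mat_entry, img_spec, img_mul, bz_root_basis, sg_img]
  exact Finset.sum_congr rfl fun k _ => by rw [mat_apply h]

theorem J_apply : ∀ r s : Fin 3 ⊕ Fin 3, Matrix.J (Fin 3) (ZMod 2) r s = if s = dual r then 1 else 0 := by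
  unfold dual Matrix.J Matrix.fromBlocks
  rintro (r | r) (s | s) <;> simp [Matrix.one_apply, CharTwo.neg_eq, eq_comm]

theorem basis_pair : ∀ a b : Fin 3 ⊕ Fin 3, sg (bI (ix a)) (ix b) = if b = dual a then 1 else 0 := by decide +kernel

theorem mat_mem (g : Cent) : mat g ∈ Matrix.symplecticGroup (Fin 3) (ZMod 2) := by
  refine SymplecticGroup.mem_iff'.2 (Matrix.ext fun c d => ?_)
  rw [Matrix.mul_apply]
  simp only [Matrix.mul_apply, Matrix.transpose_apply, J_apply, mul_ite, mul_one, mul_zero]
  have e : bz (root (bI (ix c))) (root (bI (ix d))) = ∑ k, sg (img g (bI (ix c))) (ix k) * sg (img g (bI (ix d))) (ix (dual k)) := by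
    rw [← bz_sum, ← img_spec, ← img_spec, bz_smul]
  rw [bz_root_basis, basis_pair] at e
  rw [e]
  refine Finset.sum_congr rfl fun k _ => ?_
  have hd : ∀ s, (k = dual s) ↔ s = dual k := fun s => ⟨fun h => by simp [h, dual], fun h => by simp [h, dual]⟩
  simp only [hd, Finset.sum_ite_eq', Finset.mem_univ, if_true, mat_apply]
  simp [dual]

theorem mat_one : mat 1 = 1 := by
  refine Matrix.ext fun r c => ?_
  rw [mat_entry, map_one, one_smul, bz_root_basis, basis_pair, Matrix.one_apply]
  by_cases h : r = c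
  · simp [h]
  · have hne : ¬ dual r = dual c := fun e => h (by simpa [dual] using congrArg Sum.swap e)
    rw [if_neg hne, if_neg h]

/-- The homomorphism to the symplectic group. -/
noncomputable def toSymp : Cent →* Cfsg.Lib.SpSix.SpGrp :=
  MonoidHom.mk' (fun g => ⟨mat g, mat_mem g⟩) fun g h => Subtype.ext (mat_mul g h)

theorem toSymp_eq_one {g : Cent} (h : toSymp g = 1) (i : Fin 126) : ∀ k, sg (img g i) k = sg i k := by
  have hm : mat g = 1 := congrArg Subtype.val h
  intro k
  obtain ⟨r, rfl⟩ : ∃ r, ix (dual r) = k := by revert k; decide +kernel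
  rw [sg_img, hm]
  simp [Matrix.one_apply]

theorem e8_expand : ∀ k : Fin 8, ∀ p : GolayPt,
    (Pi.single (oPt k) 8 : GolayPt → ℤ) p = vext (vl (eightPairs.getD k.val (0, 0)).1) p + vext (vl (eightPairs.getD k.val (0, 0)).2) p ∧
    (eightPairs.getD k.val (0, 0)).1 < 127 ∧ (eightPairs.getD k.val (0, 0)).2 < 127 := by
  decide +kernel

theorem e8_sum (k : Fin 8) : ∃ a b : Fin 127, e8 (oPt k) = lvec a + lvec b :=
  ⟨⟨_, (e8_expand k (oPt k)).2.1⟩, ⟨_, (e8_expand k (oPt k)).2.2⟩, Subtype.ext (funext fun p => (e8_expand k p).1)⟩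

theorem lvec_u : lvec (Fin.last 126) = Spor.leechU := Subtype.ext (funext lvec_last)

theorem co_fix_lvec {g : Cent} (h : ∀ i, co g • root i = root i) (a : Fin 127) : co g • lvec a = lvec a := by
  rcases Fin.eq_castSucc_or_eq_last a with ⟨i, rfl⟩ | rfl
  · exact h i
  · rw [lvec_u, co_smul_u]

theorem zero_diff : ∀ p : GolayPt, (Pi.single (none : GolayPt) 8 : GolayPt → ℤ) p =
    Spor.vecU p + (Pi.single (none : GolayPt) 4 - Pi.single (some (0 : ZMod 23)) 4 : GolayPt → ℤ) p ∧
    (Pi.single (some (0 : ZMod 23)) 8 : GolayPt → ℤ) p =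
    Spor.vecU p - (Pi.single (none : GolayPt) 4 - Pi.single (some (0 : ZMod 23)) 4 : GolayPt → ℤ) p := by decide +kernel

theorem swap_roots : ∀ k : Fin 8, oPt k ≠ none → oPt k ≠ some 0 → ∃ a b : Fin 126,
    ∀ p : GolayPt, (Pi.single (oPt k) 8 : GolayPt → ℤ) p = vext (vl a.val) p + vext (vl b.val) p := by
  intro k h1 h2
  obtain ⟨a, b, h⟩ := e8_sum k
  have key : ∀ k : Fin 8, oPt k ≠ none → oPt k ≠ some 0 →
      (eightPairs.getD k.val (0, 0)).1 < 126 ∧ (eightPairs.getD k.val (0, 0)).2 < 126 := by decide +kernel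
  exact ⟨⟨_, (key k h1 h2).1⟩, ⟨_, (key k h1 h2).2⟩, fun p => (e8_expand k p).1⟩

theorem five_fixed_perms : fix5Pairs.all (fun pq => ([5, 14, 17].all fun k => !Nat.beq (pget pq.1 (pget pq.2 k)) k) ||
    oList.all fun k => Nat.beq (pget pq.1 (pget pq.2 k)) k) = true := by decide +kernel

theorem octad_rest : ∀ q ∈ baseOctad, (∀ j < 5, q ≠ bp j) → (gidx q).val ∈ [5, 14, 17] := by decide +kernel

theorem octad_idx : ∀ q ∈ baseOctad, (gidx q).val ∈ oList := by decide +kernel

theorem no_transposition {σ : Equiv.Perm GolayPt} (hσ : σ ∈ M24)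
    (hfix : ∀ k : Fin 8, oPt k ≠ none → oPt k ≠ some 0 → σ (oPt k) = oPt k) : σ none = none := by
  have hne : ∀ k : Fin 8, 1 ≤ k.val → k.val ≤ 6 → oPt k ≠ none ∧ oPt k ≠ some 0 := by decide +kernel
  let x : Fin 5 ↪ GolayPt := ⟨fun i => oPt ⟨i.val + 1, by omega⟩, fun a b h => Fin.ext (by
    have := congrArg Fin.val (oPt_injective h); simpa using this)⟩
  have hx : ∀ i, σ (x i) = x i := fun i => by
    obtain ⟨a, b⟩ := hne ⟨i.val + 1, by omega⟩ (by simp) (by simp; omega)
    exact hfix _ a b
  obtain ⟨g, hg, hgx⟩ := exists_map_base x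
  have hO : g • baseOctad = baseOctad := by
    refine octads_eq_of_five (smul_octad_mem hg baseOctad_mem) baseOctad_mem
      (s := Finset.univ.image x) (by rw [Finset.card_image_of_injective _ x.injective]; simp) ?_ ?_
    · intro y hy
      obtain ⟨i, -, rfl⟩ := Finset.mem_image.1 hy
      rw [← hgx i]
      exact Finset.smul_mem_smul_finset (bp_mem_baseOctad _ i.isLt)
    · intro y hy
      obtain ⟨i, -, rfl⟩ := Finset.mem_image.1 hy
      exact oPt_mem _
  have hback : ∀ y ∈ baseOctad, g.symm y ∈ baseOctad := fun y hy => by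
    rw [← hO] at hy
    exact Finset.inv_smul_mem_iff.2 hy
  have hτ : g⁻¹ * σ * g ∈ fixB 5 := ⟨mul_mem (mul_mem (inv_mem hg) hσ) hg, fun j hj => by
    rw [Equiv.Perm.mul_apply, Equiv.Perm.mul_apply, hgx ⟨j, hj⟩, hx, ← hgx ⟨j, hj⟩]
    exact g.symm_apply_apply _⟩
  obtain ⟨pq, hpq, -, hap⟩ := fixB_five_decomp hτ
  set q := g.symm (oPt 6)
  have hq : q ∈ baseOctad := hback _ (oPt_mem 6)
  have hq5 : ∀ j < 5, q ≠ bp j := fun j hj e => by
    have h1 : oPt 6 = x ⟨j, hj⟩ := by rw [← hgx ⟨j, hj⟩, ← e]; exact (g.apply_symm_apply _).symm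
    have h2 := congrArg Fin.val (oPt_injective h1)
    simp at h2
    omega
  have hqfix : (g⁻¹ * σ * g) q = q := by
    obtain ⟨a, b⟩ := hne 6 (by decide) (by decide)
    simp only [Equiv.Perm.mul_apply, q, Equiv.apply_symm_apply, hfix 6 a b]
    rfl
  have hc := List.all_eq_true.1 five_fixed_perms pq hpq
  have hnot : ([5, 14, 17].all fun k => !Nat.beq (pget pq.1 (pget pq.2 k)) k) = false := by
    rw [Bool.eq_false_iff]
    intro h
    have := List.all_eq_true.1 h _ (octad_rest q hq hq5)
    rw [← hap, hqfix] at this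
    simp at this
  rw [hnot, Bool.false_or] at hc
  have hn : g.symm none ∈ baseOctad := hback _ (by decide +kernel)
  have h3 := List.all_eq_true.1 hc _ (octad_idx _ hn)
  rw [← hap, Nat.beq_eq] at h3
  have h4 : (g⁻¹ * σ * g) (g.symm none) = g.symm none := gidx_injective (Fin.ext h3)
  simp only [Equiv.Perm.mul_apply, Equiv.apply_symm_apply] at h4
  exact g.symm.injective h4

/-- The kernel fixes the unit vectors of the octad. -/
theorem ker_fix {g : Cent} (h : toSymp g = 1) (k : Fin 8) : co g • e8 (oPt k) = e8 (oPt k) := by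
  have hs : ∀ i : Fin 126, ∃ e : ℤ, (e = 1 ∨ e = -1) ∧
      ((co g • root i : leechLattice) : GolayPt → ℤ) = e • (root i : GolayPt → ℤ) := by
    intro i
    rw [img_spec]
    rcases sig_separates i (img g i) (sig_ext fun k => (toSymp_eq_one h i k).symm) with e | e
    · exact ⟨1, Or.inl rfl, by rw [one_smul, root_val, root_val, e]⟩
    · refine ⟨-1, Or.inr rfl, ?_⟩
      rw [root_val, root_val, e]
      funext p
      simp only [vext, Pi.smul_apply, smul_eq_mul, List.getD_eq_getElem?_getD, List.getElem?_map]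
      cases (vl i.val)[oList.idxOf (gidx p).val]? <;> simp
  choose e he hsm using hs
  have hdot : ∀ i j : Fin 126, ldot (vl i.val) (vl j.val) ≠ 0 → e i = e j := by
    intro i j hne
    have h1 := co0_dot (co g) (root i) (root j)
    rw [hsm, hsm] at h1
    have h2 : dotInt (e i • (root i : GolayPt → ℤ)) (e j • (root j : GolayPt → ℤ)) = e i * e j * dotInt (root i : GolayPt → ℤ) (root j : GolayPt → ℤ) := by
      simp only [dotInt, Pi.smul_apply, smul_eq_mul, Finset.mul_sum]
      exact Finset.sum_congr rfl fun p _ => by ring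
    rw [h2, root_val, root_val] at h1
    have hd : dotInt (vext (vl i.val)) (vext (vl j.val)) = ldot (vl i.val) (vl j.val) :=
      dot_vext (vl_length i.castSucc) (vl_length j.castSucc)
    rw [hd] at h1
    rcases he i with a | a <;> rcases he j with b | b <;> rw [a, b] at h1 ⊢ <;> omega
  have hconst : ∀ i, e i = e 0 := fun i => by
    obtain ⟨m, hm1, hm2⟩ := root_connected i
    exact ((hdot 0 m hm1).trans (hdot m i hm2)).symm
  rcases he 0 with h0 | h0
  · have hfix : ∀ i, co g • root i = root i := fun i => Subtype.ext (by rw [hsm, hconst, h0, one_smul])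
    obtain ⟨a, b, hab⟩ := e8_sum k
    rw [hab, co0_add, co_fix_lvec hfix, co_fix_lvec hfix]
  · exfalso
    have hneg : ∀ i, co g • root i = -root i := fun i => Subtype.ext (by rw [hsm, hconst, h0, neg_one_smul]; rfl)
    have hswap : co g • e8 none = e8 (some 0) := by
      obtain ⟨j, hj⟩ : ∃ j : Fin 126, ∀ p : GolayPt, vext (vl j.val) p =
          (Pi.single (none : GolayPt) 4 - Pi.single (some (0 : ZMod 23)) 4 : GolayPt → ℤ) p := by decide +kernel
      have e1 : e8 none = Spor.leechU + root j := Subtype.ext (funext fun p => by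
        rw [AddSubgroup.coe_add, Pi.add_apply, root_val, hj]; exact (zero_diff p).1)
      rw [e1, co0_add, co_smul_u, hneg]
      refine Subtype.ext (funext fun p => ?_)
      rw [AddSubgroup.coe_add, Pi.add_apply, AddSubgroup.coe_neg, Pi.neg_apply, root_val, hj, ← sub_eq_add_neg]
      exact (zero_diff p).2.symm
    have hcs : co g ∈ crossStab := mem_crossStab_iff_top.2 (by
      show ((co g • e8 none : leechLattice) : GolayPt → ℤ) ∈ stdCross
      rw [hswap]; exact e8_mem_stdCross _)
    obtain ⟨σ, c, -, hc⟩ := crossStab_monomial ⟨co g, hcs⟩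
    have hσ : ∀ i j : GolayPt, ∀ s : ℤ, s ≠ 0 → ((co g • e8 i : leechLattice) : GolayPt → ℤ) = Pi.single j s → σ.1 i = j := by
      intro i j s hs e
      have h1 := (hc (e8 i)).symm.trans e
      rw [show ((e8 i : leechLattice) : GolayPt → ℤ) = Pi.single i 8 from rfl, signedPerm_single] at h1
      by_contra hne
      have := congrFun h1 j
      rw [Pi.single_eq_same, Pi.single_eq_of_ne (Ne.symm hne)] at this
      exact hs this.symm
    have h1 := hσ none (some 0) 8 (by norm_num) (by rw [hswap]; rfl)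
    have h2 : σ.1 none = none := no_transposition σ.2 fun m hm1 hm2 => hσ _ _ (-8) (by norm_num) (by
      obtain ⟨a, b, hab⟩ := swap_roots m hm1 hm2
      have e2 : e8 (oPt m) = root a + root b := Subtype.ext (funext hab)
      rw [e2, co0_add, hneg, hneg, ← neg_add, ← e2, AddSubgroup.coe_neg]
      exact (Pi.single_neg _ _).symm)
    rw [h1] at h2
    exact Option.some_ne_none _ h2

/-- Members of the centraliser fixing the unit vectors of the octad act trivially. -/
theorem toSymp_of_fix {g : Cent} (h : ∀ k, co g • e8 (oPt k) = e8 (oPt k)) : toSymp g = 1 := by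
  have hroot : ∀ i, co g • root i = root i := by
    intro i
    have hf : ∀ p, (root i : GolayPt → ℤ) p • (co g • e8 p) = (root i : GolayPt → ℤ) p • e8 p := by
      intro p
      by_cases hp : p ∈ baseOctad
      · rw [baseOctad_eq, Finset.mem_image] at hp
        obtain ⟨k, -, rfl⟩ := hp
        rw [h]
      · rw [root_off i p hp, zero_smul, zero_smul]
    have h8 : (8 : ℤ) • (co g • root i) = (8 : ℤ) • root i := by
      rw [show co g • root i = co0Hom (co g) (root i) from rfl, ← map_zsmul, sum_smul_e8, map_sum]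
      refine Finset.sum_congr rfl fun p _ => ?_
      rw [map_zsmul]
      exact hf p
    refine Subtype.ext (funext fun p => ?_)
    have := congrFun (congrArg Subtype.val h8) p
    simp only [AddSubgroup.coe_zsmul, Pi.smul_apply, smul_eq_mul] at this
    omega
  refine Subtype.ext (Matrix.ext fun r c => ?_)
  show mat g r c = (1 : Matrix _ _ (ZMod 2)) r c
  rw [mat_entry, hroot, ← mat_one, mat_entry, map_one, one_smul]

end Cfsg.Lib.Co2Invol
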