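import Cfsg.Agent.Lib.Co2Invol.Hom
import Cfsg.Agent.Lib.JThree.InvolAux

/-!
The kernel of the action on the fixed lattice is extraspecial of order 512.
-/

set_option autoImplicit false

namespace Cfsg.Lib.Co2Invol

open Cfsg Cfsg.Lib.Concrete Finset
open scoped Pointwise symmDiff commutatorElement

/-- The packed pairs fixing the octad pointwise. -/
def kPerms : List (ℕ × ℕ) := fix5Pairs.filter fun pq => oList.all fun k => Nat.beq (pget pq.1 (pget pq.2 k)) k

/-- The action of a packed pair on masks. -/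
def pact (pq : ℕ × ℕ) (m : ℕ) : ℕ := pimg pq.1 (pimg pq.2 m)

/-- An index pair. -/
def kPair (i : Fin 16) : ℕ × ℕ := kPerms.getD i.val (0, 0)

/-- A code mask off the octad. -/
def kMask (j : Fin 32) : ℕ := kCodes.getD j.val 0

theorem kPerms_length : kPerms.length = 16 := by decide +kernel

theorem kCodes_ok : ∀ j : Fin 32, isCode (kMask j) = true ∧ kMask j < 16777216 ∧ Nat.land (kMask j) 8536111 = 0 := by
  decide +kernel

theorem kCodes_all : codeList.all (fun m => !Nat.beq (Nat.land m 8536111) 0 || kCodes.any fun c => Nat.beq c m) = true := by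
  decide +kernel

theorem kPair_fix : ∀ (i : Fin 16) (k : Fin 8), pact (kPair i) (1 <<< (gidx (oPt k)).val) = 1 <<< (gidx (oPt k)).val := by
  decide +kernel

theorem kPair_inj : ∀ i j : Fin 16, (∀ a : Fin 24, pact (kPair i) (1 <<< a.val) = pact (kPair j) (1 <<< a.val)) → i = j := by
  decide +kernel

theorem kPair_invol : ∀ (i : Fin 16) (a : Fin 24), pact (kPair i) (pact (kPair i) (1 <<< a.val)) = 1 <<< a.val := by
  decide +kernel

theorem k_square : ∀ (i : Fin 16) (j : Fin 32),
    kMask j ^^^ pact (kPair i) (kMask j) = 0 ∨ kMask j ^^^ pact (kPair i) (kMask j) = 8241104 := by decide +kernel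

theorem k_centre_perm : ∀ i : Fin 16, (∀ j : Fin 32, pact (kPair i) (kMask j) = kMask j) →
    ∀ a : Fin 24, pact (kPair i) (1 <<< a.val) = 1 <<< a.val := by decide +kernel

theorem k_centre_code : ∀ j : Fin 32, (∀ i : Fin 16, pact (kPair i) (kMask j) = kMask j) →
    kMask j = 0 ∨ kMask j = 8241104 := by decide +kernel

theorem k_moves : ∃ (i : Fin 16) (j : Fin 32), pact (kPair i) (kMask j) ≠ kMask j := by decide +kernel

theorem kMask_nodup : ∀ i j : Fin 32, kMask i = kMask j → i = j := by decide +kernel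

theorem mset_one (x : GolayPt) : mset (1 <<< (gidx x).val) = {x} := by
  ext p
  rw [mem_mset, Nat.one_shiftLeft, Nat.testBit_two_pow, Finset.mem_singleton, decide_eq_true_eq]
  exact ⟨fun h => gidx_injective (Fin.ext h.symm), fun h => by rw [h]⟩

/-- A permutation acting on masks as a packed pair. -/
def Acts (σ : Equiv.Perm GolayPt) (pq : ℕ × ℕ) : Prop := ∀ m, σ • mset m = mset (pact pq m)

theorem acts_apply {σ : Equiv.Perm GolayPt} {pq : ℕ × ℕ} (h : Acts σ pq) (x : GolayPt) :
    ({σ x} : Finset GolayPt) = mset (pact pq (1 <<< (gidx x).val)) := by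
  rw [← h, mset_one, Finset.smul_finset_singleton]; rfl

theorem fix_of_acts {σ : Equiv.Perm GolayPt} {pq : ℕ × ℕ} (h : Acts σ pq) {x : GolayPt}
    (he : pact pq (1 <<< (gidx x).val) = 1 <<< (gidx x).val) : σ x = x :=
  Finset.singleton_inj.1 (by rw [acts_apply h, he, mset_one])

theorem acts_unique {σ τ : Equiv.Perm GolayPt} {pq : ℕ × ℕ} (h : Acts σ pq) (h' : Acts τ pq) : σ = τ :=
  Equiv.ext fun x => Finset.singleton_inj.1 (by rw [acts_apply h, acts_apply h'])

theorem exists_perm (i : Fin 16) : ∃ σ : Equiv.Perm GolayPt, σ ∈ fixB 5 ∧ Acts σ (kPair i) ∧ ∀ p ∈ baseOctad, σ p = p := by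
  have hmem : kPair i ∈ fix5Pairs := by
    refine List.mem_of_mem_filter (p := fun pq => oList.all fun k => Nat.beq (pget pq.1 (pget pq.2 k)) k) ?_
    have h : i.val < kPerms.length := by rw [kPerms_length]; exact i.isLt
    rw [kPair, List.getD_eq_getElem _ _ h]
    exact List.getElem_mem h
  obtain ⟨σ, hσ, hact⟩ := exists_fix5_pair hmem
  refine ⟨σ, hσ, hact, fun p hp => ?_⟩
  rw [baseOctad_eq, Finset.mem_image] at hp
  obtain ⟨k, -, rfl⟩ := hp
  exact fix_of_acts (pq := kPair i) hact (kPair_fix i k)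

/-- The permutation of an index. -/
noncomputable def kPerm (i : Fin 16) : Equiv.Perm GolayPt := (exists_perm i).choose

theorem kPerm_mem (i : Fin 16) : kPerm i ∈ M24 := (exists_perm i).choose_spec.1.1

theorem kPerm_acts (i : Fin 16) : Acts (kPerm i) (kPair i) := (exists_perm i).choose_spec.2.1

theorem kPerm_fix (i : Fin 16) {p : GolayPt} (hp : p ∈ baseOctad) : kPerm i p = p := (exists_perm i).choose_spec.2.2 p hp

theorem kMask_code (j : Fin 32) : mset (kMask j) ∈ codeSets :=
  (mset_mem_supports_iff (kCodes_ok j).2.1).2 (kCodes_ok j).1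

theorem kMask_off (j : Fin 32) {p : GolayPt} (hp : p ∈ baseOctad) : p ∉ mset (kMask j) := by
  intro h
  have h' := (Finset.mem_inter.2 ⟨h, hp⟩ : p ∈ mset (kMask j) ∩ baseOctad)
  rw [show baseOctad = mset 8536111 from rfl, ← mset_and] at h'
  rw [show kMask j &&& 8536111 = 0 from (kCodes_ok j).2.2, mset_zero] at h'
  exact Finset.notMem_empty p h'

/-- A member as an automorphism. -/
noncomputable def kMono (x : Fin 16 × Fin 32) : Co0 :=
  monoCo0 (kPerm x.1) (kPerm_mem x.1) (mset (kMask x.2)) (kMask_code x.2)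

theorem kMono_e8 (x : Fin 16 × Fin 32) {p : GolayPt} (hp : p ∈ baseOctad) : kMono x • e8 p = e8 p := by
  refine Subtype.ext ?_
  rw [kMono, monoCo0_smul, show ((e8 p : leechLattice) : GolayPt → ℤ) = Pi.single p 8 from rfl, signedPerm_single,
    kPerm_fix _ hp, if_neg (kMask_off _ hp)]

theorem signedPerm_comp (σ τ : Equiv.Perm GolayPt) (c d : Finset GolayPt) (x : GolayPt → ℤ) :
    signedPerm σ c (signedPerm τ d x) = signedPerm (σ * τ) (c ∆ (σ • d)) x := by
  funext p
  have hiff : p ∈ σ • d ↔ σ.symm p ∈ d := by rw [← Finset.inv_smul_mem_iff]; rfl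
  simp only [signedPerm, Finset.mem_symmDiff, hiff, Equiv.Perm.mul_def, Equiv.symm_trans_apply]
  by_cases h1 : p ∈ c <;> by_cases h2 : σ.symm p ∈ d <;> simp [h1, h2]

theorem mono_ext {σ τ : Equiv.Perm GolayPt} {c d : Finset GolayPt}
    (h : ∀ v : leechLattice, signedPerm σ c v = signedPerm τ d v) : σ = τ ∧ c = d := by
  have hst := mono_unique h
  subst hst
  refine ⟨rfl, Finset.ext fun p => ?_⟩
  have := congrFun (h (e8 (σ.symm p))) p
  rw [show ((e8 (σ.symm p) : leechLattice) : GolayPt → ℤ) = Pi.single (σ.symm p) 8 from rfl, signedPerm_single,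
    signedPerm_single, Equiv.apply_symm_apply, Pi.single_eq_same, Pi.single_eq_same] at this
  by_cases h1 : p ∈ c <;> by_cases h2 : p ∈ d <;> simp [h1, h2] at this ⊢

theorem co0_ext {a b : Co0} (h : ∀ v : leechLattice, ((a • v : leechLattice) : GolayPt → ℤ) = (b • v : leechLattice).1) :
    a = b := Subtype.ext (Equiv.ext fun v => Subtype.ext (h v))

theorem kMono_cent (x : Fin 16 × Fin 32) : ∃ g : Cent, co g = kMono x ∧ g ∈ toSymp.ker := by
  have hu : kMono x • Spor.leechU = Spor.leechU := by
    refine Subtype.ext ?_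
    rw [kMono, monoCo0_smul]
    show signedPerm _ _ Spor.vecU = Spor.vecU
    funext p
    simp only [signedPerm]
    by_cases hp : p ∈ baseOctad
    · rw [if_neg (kMask_off _ hp), show (kPerm x.1).symm p = p from (Equiv.symm_apply_eq _).2 (kPerm_fix _ hp).symm]
    · have h : (kPerm x.1).symm p ∉ baseOctad := fun h => hp (by
        have := kPerm_fix x.1 h
        rw [Equiv.apply_symm_apply] at this
        rwa [this])
      rw [vl_u_off p hp, vl_u_off _ h, neg_zero, ite_self]
  have hOs : kPerm x.1 • baseOctad = baseOctad := by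
    refine Finset.eq_of_subset_of_card_le (fun p hp => ?_) (by rw [Finset.card_smul_finset])
    obtain ⟨q, hq, rfl⟩ := Finset.mem_smul_finset.1 hp
    rw [Equiv.Perm.smul_def, kPerm_fix _ hq]
    exact hq
  have hc : kMono x * tZero = tZero * kMono x := by
    refine co0_ext fun v => ?_
    rw [mul_smul, mul_smul]
    simp only [kMono, tZero, monoCo0_smul, signedPerm_comp, one_mul, mul_one, one_smul]
    have hm : kPerm x.1 • mset 8241104 = mset 8241104 := by
      ext p
      rw [← Finset.inv_smul_mem_iff, off_iff, off_iff]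
      show ((kPerm x.1).symm p ∉ baseOctad) ↔ _
      rw [not_iff_not]
      conv_rhs => rw [← hOs, ← Finset.inv_smul_mem_iff]
      rfl
    rw [hm, symmDiff_comm]
  obtain ⟨g, hg⟩ := exists_cent hu hc
  exact ⟨g, hg, MonoidHom.mem_ker.2 (toSymp_of_fix fun k => by rw [hg]; exact kMono_e8 x (oPt_mem k))⟩

/-- The parametrisation of the kernel. -/
noncomputable def kElt (x : Fin 16 × Fin 32) : toSymp.ker :=
  ⟨(kMono_cent x).choose, (kMono_cent x).choose_spec.2⟩

theorem kElt_co (x : Fin 16 × Fin 32) : co (kElt x).1 = kMono x := (kMono_cent x).choose_spec.1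

theorem kElt_injective : Function.Injective kElt := by
  intro x y h
  have h1 : kMono x = kMono y := by rw [← kElt_co, h, kElt_co]
  obtain ⟨hp, hm⟩ := mono_ext fun v => congrArg (fun a : Co0 => ((a • v : leechLattice) : GolayPt → ℤ)) h1
  refine Prod.ext (kPair_inj _ _ fun a => ?_) (kMask_nodup _ _ (mset_inj (kCodes_ok _).2.1 (kCodes_ok _).2.1 hm))
  have hlt : ∀ (i : Fin 16) (a : Fin 24), pact (kPair i) (1 <<< a.val) < 2 ^ 24 := by decide +kernel
  exact mset_inj (hlt _ _) (hlt _ _) (by rw [← kPerm_acts, ← kPerm_acts, hp])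

theorem kElt_surjective : Function.Surjective kElt := by
  rintro ⟨g, hg⟩
  have hfix := fun k => ker_fix (MonoidHom.mem_ker.1 hg) k
  have hcs : co g ∈ crossStab := mem_crossStab_iff_top.2 (by
    obtain ⟨k, hk⟩ : ∃ k, oPt k = none := ⟨7, by decide +kernel⟩
    show ((co g • e8 none : leechLattice) : GolayPt → ℤ) ∈ stdCross
    rw [← hk, hfix]; exact e8_mem_stdCross _)
  obtain ⟨⟨σ, hσ⟩, c, hc, he⟩ := crossStab_monomial ⟨co g, hcs⟩
  have hp : ∀ p ∈ baseOctad, σ p = p ∧ p ∉ c := by
    intro p hp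
    rw [baseOctad_eq, Finset.mem_image] at hp
    obtain ⟨k, -, rfl⟩ := hp
    have h1 := (congrArg Subtype.val (hfix k)).symm.trans (he (e8 (oPt k)))
    rw [show ((e8 (oPt k) : leechLattice) : GolayPt → ℤ) = Pi.single (oPt k) 8 from rfl, signedPerm_single] at h1
    have h2 : σ (oPt k) = oPt k := by
      by_contra hne
      have := congrFun h1 (oPt k)
      rw [Pi.single_eq_same, Pi.single_eq_of_ne (Ne.symm hne)] at this
      omega
    refine ⟨h2, fun h => ?_⟩
    have := congrFun h1 (oPt k)
    rw [h2, if_pos h, Pi.single_eq_same, Pi.single_eq_same] at this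
    omega
  have h5 : σ ∈ fixB 5 := ⟨hσ, fun j hj => (hp _ (bp_mem_baseOctad j hj)).1⟩
  obtain ⟨pq, hpq, him, hap⟩ := fixB_five_decomp h5
  have hk : pq ∈ kPerms := List.mem_filter.2 ⟨hpq, List.all_eq_true.2 fun k hk => by
    have hO : ∀ k ∈ oList, gpt (Fin.ofNat 24 k) ∈ baseOctad ∧ (gidx (gpt (Fin.ofNat 24 k))).val = k := by decide +kernel
    rw [Nat.beq_eq, ← (hO k hk).2, ← hap, (hp _ (hO k hk).1).1]⟩
  obtain ⟨i, hi, hi'⟩ := List.getElem_of_mem hk
  rw [kPerms_length] at hi
  have hσ' : kPerm ⟨i, hi⟩ = σ := acts_unique (kPerm_acts _) (by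
    rw [show kPair ⟨i, hi⟩ = pq by rw [kPair, List.getD_eq_getElem _ _ (by rw [kPerms_length]; exact hi)]; exact hi']
    exact him)
  obtain ⟨m, hm, rfl⟩ := mem_supports_iff.1 hc
  have hm0 : Nat.land m 8536111 = 0 := by
    refine mset_inj (lt_of_le_of_lt Nat.and_le_right (by norm_num)) (by norm_num) ?_
    show mset (m &&& 8536111) = mset 0
    rw [mset_and, mset_zero]
    exact Finset.disjoint_iff_inter_eq_empty.1 (Finset.disjoint_right.2 fun p hp' => (hp p hp').2)
  have h := List.all_eq_true.1 kCodes_all m hm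
  rw [hm0, Nat.beq_refl, Bool.not_true, Bool.false_or, List.any_eq_true] at h
  obtain ⟨x, hx, hxe⟩ := h
  obtain ⟨j, hj, hj'⟩ := List.getElem_of_mem hx
  have hj32 : j < 32 := hj
  have hmj : kMask ⟨j, hj32⟩ = m := by rw [kMask, List.getD_eq_getElem _ _ hj, hj', Nat.eq_of_beq_eq_true hxe]
  refine ⟨(⟨i, hi⟩, ⟨j, hj32⟩), Subtype.ext (co_injective ?_)⟩
  rw [kElt_co]
  refine co0_ext fun v => ?_
  rw [kMono, monoCo0_smul, hσ', hmj]
  exact (he v).symm

theorem card_ker : Nat.card toSymp.ker = 2 ^ 9 := by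
  rw [← Nat.card_congr (Equiv.ofBijective kElt ⟨kElt_injective, kElt_surjective⟩), Nat.card_prod, Nat.card_fin,
    Nat.card_fin]
  norm_num

/-- The involution in the centraliser. -/
noncomputable def tCent : Cent := ⟨tTwo, Subgroup.mem_centralizer_iff.2 fun h hh => by rw [Set.mem_singleton_iff.1 hh]⟩

theorem co_tCent : co tCent = tZero := Subtype.ext rfl

theorem tCent_ker : tCent ∈ toSymp.ker :=
  MonoidHom.mem_ker.2 (toSymp_of_fix fun k => by
    rw [co_tCent]
    exact fix_of_off fun p hp => Pi.single_eq_of_ne (fun e => hp (by rw [e]; exact oPt_mem k)) _)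

/-- The involution in the kernel. -/
noncomputable def tKer : toSymp.ker := ⟨tCent, tCent_ker⟩

theorem co_ker_injective {a b : toSymp.ker} (h : co a.1 = co b.1) : a = b := Subtype.ext (co_injective h)

theorem kMono_mul (x y : Fin 16 × Fin 32) (v : leechLattice) :
    (((kMono x * kMono y) • v : leechLattice) : GolayPt → ℤ) =
      signedPerm (kPerm x.1 * kPerm y.1) (mset (kMask x.2 ^^^ pact (kPair x.1) (kMask y.2))) v := by
  rw [mul_smul, kMono, kMono, monoCo0_smul, monoCo0_smul, signedPerm_comp, kPerm_acts, mset_xor]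

theorem kPerm_sq (i : Fin 16) : kPerm i * kPerm i = 1 := by
  refine Equiv.ext fun x => Finset.singleton_inj.1 ?_
  calc ({(kPerm i * kPerm i) x} : Finset GolayPt) = kPerm i • ({kPerm i x} : Finset GolayPt) := by
        rw [Finset.smul_finset_singleton]; rfl
    _ = mset (pact (kPair i) (pact (kPair i) (1 <<< (gidx x).val))) := by
        rw [acts_apply (kPerm_acts i), kPerm_acts i]
    _ = {x} := by rw [kPair_invol, mset_one]

theorem ker_sq (a : toSymp.ker) : a * a = 1 ∨ a * a = tKer := by
  obtain ⟨x, rfl⟩ := kElt_surjective a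
  rcases k_square x.1 x.2 with h | h
  · refine Or.inl (co_ker_injective ?_)
    rw [Subgroup.coe_mul, map_mul, kElt_co, OneMemClass.coe_one, map_one]
    refine co0_ext fun v => ?_
    rw [kMono_mul, h, kPerm_sq, one_smul, mset_zero]
    funext p; simp [signedPerm_one]
  · refine Or.inr (co_ker_injective ?_)
    rw [Subgroup.coe_mul, map_mul, kElt_co, show co (tKer : toSymp.ker).1 = tZero from co_tCent]
    refine co0_ext fun v => ?_
    rw [kMono_mul, h, kPerm_sq, tZero, monoCo0_smul]

theorem tKer_comm (a : toSymp.ker) : a * tKer = tKer * a :=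
  co_ker_injective (by
    rw [Subgroup.coe_mul, Subgroup.coe_mul, map_mul, map_mul, show co (tKer : toSymp.ker).1 = tZero from co_tCent]
    exact co_comm _)

theorem kPerm_zero : ∀ i : Fin 16, (∀ a : Fin 24, pact (kPair i) (1 <<< a.val) = 1 <<< a.val) → i = 0 := by
  decide +kernel

theorem kPair_zero : ∀ a : Fin 24, pact (kPair 0) (1 <<< a.val) = 1 <<< a.val := by decide +kernel

theorem kMask_zero : kMask 0 = 0 := by decide +kernel

theorem kPerm_zero_eq : kPerm 0 = 1 := Equiv.ext fun x => fix_of_acts (kPerm_acts 0) (kPair_zero _)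

theorem comm_iff (x y : Fin 16 × Fin 32) (h : kElt x * kElt y = kElt y * kElt x) :
    mset (kMask x.2 ^^^ pact (kPair x.1) (kMask y.2)) = mset (kMask y.2 ^^^ pact (kPair y.1) (kMask x.2)) := by
  have h' : kMono x * kMono y = kMono y * kMono x := by
    have := congrArg (fun a : toSymp.ker => co a.1) h
    simpa only [Subgroup.coe_mul, map_mul, kElt_co] using this
  exact (mono_ext fun v => (kMono_mul x y v).symm.trans ((congrArg (fun a : Co0 => ((a • v : leechLattice) : GolayPt → ℤ)) h').trans (kMono_mul y x v))).2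

theorem pact_lt : ∀ (i : Fin 16) (j : Fin 32), pact (kPair i) (kMask j) < 16777216 := by decide +kernel

theorem pact_zero : ∀ j : Fin 32, pact (kPair 0) (kMask j) = kMask j ∧ ∀ i : Fin 16, pact (kPair i) (kMask 0) = 0 := by
  decide +kernel

theorem xor_lt (i : Fin 16) (a b : Fin 32) : kMask a ^^^ pact (kPair i) (kMask b) < 2 ^ 24 :=
  Nat.xor_lt_two_pow (kCodes_ok a).2.1 (pact_lt i b)

theorem ker_center : Subgroup.center toSymp.ker = Subgroup.zpowers tKer := by
  refine le_antisymm (fun a ha => ?_) (Subgroup.zpowers_le.2 (Subgroup.mem_center_iff.2 tKer_comm))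
  obtain ⟨⟨i, j⟩, rfl⟩ := kElt_surjective a
  have hcm := fun y => mset_inj (xor_lt _ _ _) (xor_lt _ _ _)
    (comm_iff (i, j) y (Subgroup.mem_center_iff.1 ha (kElt y)).symm)
  have hi : i = 0 := kPerm_zero i (k_centre_perm i fun d => by
    have := hcm (0, d)
    simp only [(pact_zero j).1] at this
    rw [Nat.xor_comm (kMask d) (kMask j)] at this
    exact Nat.xor_right_inj.1 this)
  subst hi
  have hj := k_centre_code j fun b => by
    have := hcm (b, 0)
    simp only [kMask_zero, Nat.zero_xor] at this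
    rw [show pact (kPair 0) 0 = 0 by rw [← kMask_zero]; exact ((pact_zero j).2 0).trans rfl] at this
    simpa using this.symm
  have hco : co (kElt (0, j)).1 = kMono (0, j) := kElt_co _
  rcases hj with h | h
  · rw [show kElt (0, j) = 1 from co_ker_injective (by
      rw [hco, OneMemClass.coe_one, map_one]
      refine co0_ext fun v => ?_
      rw [kMono, monoCo0_smul, kPerm_zero_eq, h, one_smul, mset_zero]
      funext p; simp [signedPerm_one])]
    exact one_mem _
  · rw [show kElt (0, j) = tKer from co_ker_injective (by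
      rw [hco, show co (tKer : toSymp.ker).1 = tZero from co_tCent]
      refine co0_ext fun v => ?_
      rw [kMono, monoCo0_smul, kPerm_zero_eq, h, tZero, monoCo0_smul])]
    exact Subgroup.mem_zpowers _

theorem tKer_ne : tKer ≠ 1 := by
  intro h
  have h' : tZero = 1 := by rw [← co_tCent, show tCent = 1 from congrArg Subtype.val h, map_one]
  have := congrArg (fun a : Co0 => ((a • e8 (gpt 4) : leechLattice) : GolayPt → ℤ) (gpt 4)) h'
  simp only [one_smul, tZero_smul] at this
  have h8 : ((e8 (gpt 4) : leechLattice) : GolayPt → ℤ) (gpt 4) = 8 := by simp [e8]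
  rw [if_neg (by decide +kernel), h8] at this
  omega

theorem tKer_sq : tKer * tKer = 1 := by
  refine co_ker_injective ?_
  rw [Subgroup.coe_mul, map_mul, show co (tKer : toSymp.ker).1 = tZero from co_tCent, OneMemClass.coe_one, map_one]
  refine co0_ext fun v => funext fun p => ?_
  rw [mul_smul, one_smul, tZero_smul]
  simp only [tZero_smul]
  split <;> simp

theorem ker_extraspecial : IsExtraspecial 2 toSymp.ker := by
  haveI : Fact (Nat.Prime 2) := ⟨Nat.prime_two⟩
  have hord : orderOf tKer = 2 := orderOf_eq_prime (by rw [pow_two, tKer_sq]) tKer_ne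
  have hP : IsPGroup 2 toSymp.ker := IsPGroup.of_card (n := 9) card_ker
  haveI : Finite toSymp.ker := Nat.finite_of_card_ne_zero (by rw [card_ker]; norm_num)
  have hsq : ∀ a : toSymp.ker, a ^ 2 ∈ Subgroup.zpowers tKer := fun a => by
    rw [pow_two]
    rcases ker_sq a with h | h <;> rw [h]
    · exact one_mem _
    · exact Subgroup.mem_zpowers _
  have hcen : ∀ a : toSymp.ker, ∀ b, a ^ 2 * b = b * a ^ 2 := fun a b => by
    have := ker_center ▸ hsq a
    exact (Subgroup.mem_center_iff.1 this b).symm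
  have hle : commutator toSymp.ker ≤ Subgroup.zpowers tKer := by
    rw [commutator_def, Subgroup.commutator_le]
    intro a _ b _
    have e : ⁅a, b⁆ = a ^ 2 * (a⁻¹ * b) ^ 2 * (b⁻¹) ^ 2 := by
      rw [commutatorElement_def, pow_two, pow_two, pow_two]; group
    rw [e]
    exact mul_mem (mul_mem (hsq _) (hsq _)) (hsq _)
  have hge : Subgroup.zpowers tKer ≤ commutator toSymp.ker := by
    obtain ⟨i, j, hij⟩ := k_moves
    have hne : ⁅kElt (i, 0), kElt (0, j)⁆ ≠ 1 := fun h => hij (by
      have := mset_inj (xor_lt _ _ _) (xor_lt _ _ _) (comm_iff _ _ (commutatorElement_eq_one_iff_mul_comm.1 h))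
      simpa [kMask_zero, (pact_zero j).2 0, show pact (kPair 0) 0 = 0 by decide +kernel] using this)
    have hmem : ⁅kElt (i, 0), kElt (0, j)⁆ ∈ commutator toSymp.ker :=
      Subgroup.commutator_mem_commutator (Subgroup.mem_top _) (Subgroup.mem_top _)
    obtain ⟨n, hn⟩ := Subgroup.mem_zpowers_iff.1 (hle hmem)
    rw [Subgroup.zpowers_le]
    rcases Int.emod_two_eq_zero_or_one n with h | h
    · exact absurd (by rw [← hn, ← zpow_mod_orderOf, hord]; simp [h]) hne
    · have e : tKer = ⁅kElt (i, 0), kElt (0, j)⁆ := by rw [← hn, ← zpow_mod_orderOf, hord]; simp [h]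
      rw [e]; exact hmem
  have hc : commutator toSymp.ker = Subgroup.center toSymp.ker := by rw [ker_center]; exact le_antisymm hle hge
  refine ⟨⟨hP, le_antisymm ?_ ?_, hc⟩, by rw [ker_center, Nat.card_zpowers, hord]⟩
  · exact ker_center.symm ▸ Cfsg.Lib.PGroup.frattini_le_of_commutator_le_of_pow_mem (p := 2) hle hsq
  · exact hc ▸ Cfsg.Lib.PGroup.commutator_le_frattini hP

end Cfsg.Lib.Co2Invol
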