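import Cfsg.Agent.Lib.Co2Invol.Kernel
import Cfsg.Agent.Lib.Concrete.LeechMatrix
import Cfsg.Agent.S0270

/-!
The centraliser of an involution of Co2 maps onto `Sp6(2)` with kernel the largest normal 2-subgroup.
-/

set_option autoImplicit false

namespace Cfsg.Lib.Co2Invol

open Cfsg Cfsg.Lib.Concrete Cfsg.Lib.SpSix Finset

/-- A listed matrix. -/
def genL (i : Fin 2) : List (List ℤ) := genMatList.getD i.val []

theorem genL_ok : ∀ i : Fin 2, matOk (genL i) = true := by decide +kernel

theorem genL_u : ∀ (i : Fin 2) (p : GolayPt), matFun (genL i) Spor.vecU p = Spor.vecU p := by decide +kernel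

theorem genL_block : ∀ (i : Fin 2) (a b : Fin 24),
    matEntry (genL i) a b = 0 ∨ (gpt a ∈ baseOctad ↔ gpt b ∈ baseOctad) := by decide +kernel

/-- An entry of a generator of the symplectic group. -/
def gEntry (i : Fin 2) (r c : Fin 3 ⊕ Fin 3) : ZMod 2 := genMat i r c

theorem genL_mat : ∀ (i : Fin 2) (r c : Fin 3 ⊕ Fin 3),
    ((dotInt (matFun (genL i) (vext (vl (bI (ix c)).val))) (vext (vl (bI (ix (dual r))).val)) / 16 : ℤ) : ZMod 2) =
      gEntry i r c := by decide +kernel

theorem gen_comm (i : Fin 2) : matCo0 (genL i) (genL_ok i) * tZero = tZero * matCo0 (genL i) (genL_ok i) := by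
  refine co0_ext fun v => funext fun p => ?_
  rw [mul_smul, mul_smul, matCo0_apply, tZero_smul, matCo0_apply]
  have key : ∀ a : Fin 24, matDot (genL i) ((tZero • v : leechLattice) : GolayPt → ℤ) a =
      if gpt a ∈ baseOctad then matDot (genL i) v a else -matDot (genL i) v a := by
    intro a
    rw [matDot_eq, matDot_eq]
    split <;> rename_i ha
    · refine Finset.sum_congr rfl fun b _ => ?_
      rw [tZero_smul]
      rcases genL_block i a b with h | h
      · rw [h, zero_mul, zero_mul]
      · rw [if_pos (h.1 ha)]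
    · rw [← Finset.sum_neg_distrib]
      refine Finset.sum_congr rfl fun b _ => ?_
      rw [tZero_smul]
      rcases genL_block i a b with h | h
      · rw [h, zero_mul, zero_mul, neg_zero]
      · rw [if_neg (fun hb => ha (h.2 hb)), mul_neg]
  have hd := (matPres_spec (L := genL i) (by
    have := genL_ok i
    simp only [matOk, Bool.and_eq_true] at this
    exact this.1.2) v.2).1 (gidx p)
  simp only [matFun, key, gpt_gidx]
  split
  · rfl
  · exact Int.neg_ediv_of_dvd hd

theorem gen_lift (i : Fin 2) : ∃ g : Cent, (toSymp g).1 = genMat i := by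
  obtain ⟨g, hg⟩ := exists_cent (g := matCo0 (genL i) (genL_ok i))
    (Subtype.ext (by rw [matCo0_apply]; exact funext (genL_u i))) (gen_comm i)
  refine ⟨g, Matrix.ext fun r c => ?_⟩
  show mat g r c = _
  rw [mat_entry, hg, bz, matCo0_apply, root_val, root_val]
  exact genL_mat i r c

theorem spRep_genMat (A : SpGrp) (i : Fin 2) (h : A.1 = genMat i) : spRep A = proj (cGen i.val) := by
  refine Equiv.ext fun j => ?_
  rw [spRep_apply, h, (genMat_ok i).2 j]
  fin_cases i <;> rfl

theorem toSymp_surjective : Function.Surjective toSymp := by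
  rw [← MonoidHom.range_eq_top]
  apply Subgroup.map_injective spRep_injective
  refine le_antisymm (Subgroup.map_mono le_top) ?_
  rw [← MonoidHom.range_eq_map, ← proj_range, MonoidHom.range_eq_map proj, ← cGen_closure, MonoidHom.map_closure,
    Subgroup.closure_le]
  rintro _ ⟨x, hx, rfl⟩
  have key : ∀ i : Fin 2, proj (cGen i.val) ∈ toSymp.range.map spRep := fun i => by
    obtain ⟨g, hg⟩ := gen_lift i
    exact ⟨toSymp g, ⟨g, rfl⟩, spRep_genMat _ i hg⟩
  rcases hx with rfl | rfl
  · exact key 0
  · exact key 1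

theorem normal_two_trivial (N : Subgroup SpGrp) (hN : N.Normal) (h2 : IsPGroup 2 N) : N = ⊥ := by
  haveI := Cfsg.Agent.S0270.result (F := ZMod 2) 3 (by norm_num) (by norm_num)
  haveI : Fact (Nat.Prime 2) := ⟨Nat.prime_two⟩
  haveI : Finite N := Subtype.finite
  have hinj : Function.Injective (QuotientGroup.mk' (Subgroup.center SpGrp) : SpGrp →* Cfsg.PSp 3 (ZMod 2)) := by
    rw [← MonoidHom.ker_eq_bot_iff, QuotientGroup.ker_mk', center_Sp]
  have hsurj := QuotientGroup.mk'_surjective (Subgroup.center SpGrp)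
  rcases (hN.map (QuotientGroup.mk' (Subgroup.center SpGrp)) hsurj).eq_bot_or_eq_top with h | h
  · exact (Subgroup.map_eq_bot_iff_of_injective N hinj).1 h
  · exfalso
    have e : N = ⊤ := Subgroup.map_injective hinj (h.trans (Subgroup.map_top_of_surjective _ hsurj).symm)
    obtain ⟨k, hk⟩ := h2.exists_card_eq
    rw [e, Subgroup.card_top, card_Sp] at hk
    have h3 : 3 ∣ 2 ^ k := hk ▸ (show (3 : ℕ) ∣ 1451520 by norm_num)
    exact absurd (Nat.prime_three.dvd_of_dvd_pow h3) (by norm_num)

theorem pCore_eq : pCore 2 Cent = toSymp.ker := by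
  refine le_antisymm (sSup_le fun N hN => ?_) (le_sSup ⟨inferInstance, IsPGroup.of_card (n := 9) card_ker⟩)
  haveI := hN.1
  rw [← Subgroup.map_eq_bot_iff]
  exact normal_two_trivial _ (hN.1.map toSymp toSymp_surjective) (hN.2.map toSymp)

theorem orderOf_tTwo : orderOf tTwo = 2 := by
  have h := orderOf_injective (Cent.subtype.comp toSymp.ker.subtype)
    (Subtype.val_injective.comp Subtype.val_injective) tKer
  haveI : Fact (Nat.Prime 2) := ⟨Nat.prime_two⟩
  rw [show tTwo = (Cent.subtype.comp toSymp.ker.subtype) tKer from rfl, h]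
  exact orderOf_eq_prime (by rw [pow_two, tKer_sq]) tKer_ne

end Cfsg.Lib.Co2Invol
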