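import Cfsg.Agent.Lib.Concrete.LeechCrossCore
import Cfsg.Agent.Lib.Co2Invol.Data

/-!
The roots of the lattice on the base octad orthogonal to the fixed vector of Co2, and their pairing modulo two.
-/

set_option autoImplicit false

namespace Cfsg.Lib.Co2Invol

open Cfsg Cfsg.Lib.Concrete Finset
open scoped Pointwise

/-- A point of the octad. -/
def oPt (k : Fin 8) : GolayPt := gpt (Fin.ofNat 24 (oList.getD k.val 0))

/-- A vector on the octad, extended by zero. -/
def vext (l : List ℤ) : GolayPt → ℤ := fun p => l.getD (oList.idxOf (gidx p).val) 0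

/-- A listed vector. -/
def vl (i : ℕ) : List ℤ := rootList.getD i []

/-- The dot product of two lists. -/
def ldot : List ℤ → List ℤ → ℤ
  | a :: as, b :: bs => a * b + ldot as bs
  | _, _ => 0

/-- All sequences of a length over a list. -/
def allSeq (V : List ℤ) : ℕ → List (List ℤ)
  | 0 => [[]]
  | n + 1 => V.flatMap fun a => (allSeq V n).map (a :: ·)

theorem ofFn_mem_allSeq (V : List ℤ) : ∀ {n : ℕ} (f : Fin n → ℤ), (∀ k, f k ∈ V) → List.ofFn f ∈ allSeq V n := by
  intro n
  induction n with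
  | zero => intro f _; simp [allSeq]
  | succ n ih =>
    intro f hf
    rw [List.ofFn_succ, allSeq]
    exact List.mem_flatMap.2 ⟨f 0, hf 0, List.mem_map.2 ⟨_, ih _ fun k => hf _, rfl⟩⟩

theorem baseOctad_eq : baseOctad = Finset.univ.image oPt := by decide +kernel

theorem oPt_injective : Function.Injective oPt := by decide +kernel

theorem oPt_mem (k : Fin 8) : oPt k ∈ baseOctad := by
  rw [baseOctad_eq]; exact Finset.mem_image_of_mem _ (Finset.mem_univ k)

theorem idxOf_oPt : ∀ k : Fin 8, oList.idxOf (gidx (oPt k)).val = k.val := by decide +kernel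

theorem idxOf_off : ∀ p : GolayPt, p ∉ baseOctad → oList.idxOf (gidx p).val = 8 := by decide +kernel

theorem vl_length : ∀ i : Fin 127, (vl i.val).length = 8 := by decide +kernel

theorem vext_off {l : List ℤ} (hl : l.length = 8) {p : GolayPt} (hp : p ∉ baseOctad) : vext l p = 0 := by
  rw [vext, idxOf_off p hp, List.getD_eq_default _ _ hl.le]

theorem vext_oPt (l : List ℤ) (k : Fin 8) : vext l (oPt k) = l.getD k.val 0 := by rw [vext, idxOf_oPt]

theorem sum_octad {f : GolayPt → ℤ} (hf : ∀ p ∉ baseOctad, f p = 0) : ∑ p, f p = ∑ k, f (oPt k) := by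
  rw [← Finset.sum_subset (Finset.subset_univ baseOctad) fun p _ hp => hf p hp, baseOctad_eq,
    Finset.sum_image fun a _ b _ h => oPt_injective h]

theorem eq_vext {f : GolayPt → ℤ} (hf : ∀ p ∉ baseOctad, f p = 0) : f = vext (List.ofFn fun k => f (oPt k)) := by
  funext p
  by_cases hp : p ∈ baseOctad
  · rw [baseOctad_eq, Finset.mem_image] at hp
    obtain ⟨k, -, rfl⟩ := hp
    rw [vext_oPt, List.getD_eq_getElem?_getD, List.getElem?_ofFn]
    simp
  · rw [hf p hp, vext_off (by simp) hp]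

theorem dot_vext {a b : List ℤ} (ha : a.length = 8) (hb : b.length = 8) :
    dotInt (vext a) (vext b) = ldot a b := by
  rw [dotInt, sum_octad fun p hp => by rw [vext_off ha hp, zero_mul]]
  simp only [vext_oPt]
  obtain ⟨a0, a1, a2, a3, a4, a5, a6, a7, rfl⟩ : ∃ a0 a1 a2 a3 a4 a5 a6 a7, a = [a0, a1, a2, a3, a4, a5, a6, a7] := by
    rcases a with _ | ⟨a0, _ | ⟨a1, _ | ⟨a2, _ | ⟨a3, _ | ⟨a4, _ | ⟨a5, _ | ⟨a6, _ | ⟨a7, _ | ⟨a8, a⟩⟩⟩⟩⟩⟩⟩⟩⟩ <;>
      simp only [List.length_nil, List.length_cons] at ha <;> first | omega | exact ⟨_, _, _, _, _, _, _, _, rfl⟩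
  obtain ⟨b0, b1, b2, b3, b4, b5, b6, b7, rfl⟩ : ∃ b0 b1 b2 b3 b4 b5 b6 b7, b = [b0, b1, b2, b3, b4, b5, b6, b7] := by
    rcases b with _ | ⟨b0, _ | ⟨b1, _ | ⟨b2, _ | ⟨b3, _ | ⟨b4, _ | ⟨b5, _ | ⟨b6, _ | ⟨b7, _ | ⟨b8, b⟩⟩⟩⟩⟩⟩⟩⟩⟩ <;>
      simp only [List.length_nil, List.length_cons] at hb <;> first | omega | exact ⟨_, _, _, _, _, _, _, _, rfl⟩
  simp only [Fin.sum_univ_eight, ldot]
  simp
  ring

theorem listed_mem : ∀ i : Fin 127, inLeech (vext (vl i.val)) = true := by decide +kernel

/-- A listed vector as a lattice element. -/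
def lvec (i : Fin 127) : leechLattice := ⟨vext (vl i.val), mem_leech_of_inLeech (listed_mem i)⟩

/-- A root. -/
def root (i : Fin 126) : leechLattice := lvec i.castSucc

theorem root_val (i : Fin 126) : (root i : GolayPt → ℤ) = vext (vl i.val) := rfl

theorem lvec_last : ∀ p : GolayPt, vext (vl 126) p = Spor.vecU p := by decide +kernel

theorem vecU_eq : Spor.vecU = vext (vl 126) := (funext lvec_last).symm

theorem root_norm : ∀ i : Fin 126, ldot (vl i.val) (vl i.val) = 32 ∧ ldot (vl i.val) (vl 126) = 0 := by decide +kernel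

theorem cand_four : (allSeq [-4, 0, 4] 8).all (fun l => !(ldot l l == 32 && ldot l (vl 126) == 0) ||
    (List.range 126).any fun i => vl i == l) = true := by decide +kernel

theorem cand_two : (allSeq [-2, 2] 8).all (fun l => !(ldot l l == 32 && ldot l (vl 126) == 0 && l.sum % 8 == 0) ||
    (List.range 126).any fun i => vl i == l) = true := by decide +kernel

/-- Every root is listed. -/
theorem root_complete {x : leechLattice} (hoff : ∀ p ∉ baseOctad, (x : GolayPt → ℤ) p = 0)
    (hn : sqNorm (x : GolayPt → ℤ) = 32) (hu : dotInt (x : GolayPt → ℤ) Spor.vecU = 0) : ∃ i : Fin 126, x = root i := by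
  classical
  obtain ⟨m, hpar, hsum, hk⟩ := mem_leechLattice_iff.1 x.2
  set l := List.ofFn fun k => (x : GolayPt → ℤ) (oPt k) with hl
  have hlen : l.length = 8 := by simp [hl]
  have hx : (x : GolayPt → ℤ) = vext l := eq_vext hoff
  have h0 : ldot l l = 32 := by
    rw [← dot_vext hlen hlen, ← hx, ← hn, dotInt, sqNorm]
    exact Finset.sum_congr rfl fun p _ => (sq _).symm
  have h1 : ldot l (vl 126) = 0 := by
    exact (dot_vext hlen (vl_length (Fin.last 126))).symm.trans (by rw [← hx, ← hu, vecU_eq]; rfl)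
  obtain ⟨q, hq⟩ : ∃ q, q ∉ baseOctad := ⟨gpt 4, by decide +kernel⟩
  have hm : m % 2 = 0 := by
    have := hpar q
    rw [hoff q hq] at this
    unfold Int.ModEq at this
    omega
  have h2 : l.sum % 8 = 0 := by
    rw [hl, List.sum_ofFn, ← sum_octad hoff]
    unfold Int.ModEq at hsum
    omega
  have heven : ∀ p, (x : GolayPt → ℤ) p % 2 = 0 := fun p => by
    have := hpar p
    unfold Int.ModEq at this
    omega
  have hb : ∀ p, -5 ≤ (x : GolayPt → ℤ) p ∧ (x : GolayPt → ℤ) p ≤ 5 := fun p => by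
    have h : (x : GolayPt → ℤ) p ^ 2 ≤ 32 :=
      hn ▸ Finset.single_le_sum (f := fun j => (x : GolayPt → ℤ) j ^ 2) (fun j _ => sq_nonneg _) (Finset.mem_univ p)
    constructor <;> nlinarith
  have hsub : (Finset.univ.filter fun p => (x : GolayPt → ℤ) p ≡ 2 [ZMOD 4]) ⊆ baseOctad := by
    intro p hp
    by_contra hpn
    have := (Finset.mem_filter.1 hp).2
    rw [hoff p hpn] at this
    exact absurd this (by decide)
  have hfin : ∀ V : List ℤ, ∀ chk : List ℤ → Bool, (allSeq V 8).all (fun l => !chk l ||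
      (List.range 126).any fun i => vl i == l) = true → chk l = true → (∀ k, (x : GolayPt → ℤ) (oPt k) ∈ V) →
      ∃ i : Fin 126, x = root i := by
    intro V chk hall hc hV
    have := List.all_eq_true.1 hall l (ofFn_mem_allSeq V _ hV)
    rw [hc, Bool.not_true, Bool.false_or, List.any_eq_true] at this
    obtain ⟨i, hi, hil⟩ := this
    exact ⟨⟨i, List.mem_range.1 hi⟩, Subtype.ext (by rw [hx, root_val, beq_iff_eq.1 hil])⟩
  by_cases hne : (Finset.univ.filter fun p => (x : GolayPt → ℤ) p ≡ 2 [ZMOD 4]).Nonempty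
  · have heq := Finset.eq_of_subset_of_card_le hsub (baseOctad_mem.2.trans_le (supports_card_ge (hk 2) hne))
    refine hfin [-2, 2] _ cand_two (by simp [h0, h1, h2]) fun k => ?_
    have := (Finset.mem_filter.1 (heq.symm ▸ oPt_mem k)).2
    have := hb (oPt k)
    unfold Int.ModEq at *
    simp only [List.mem_cons, List.not_mem_nil, or_false]
    omega
  · refine hfin [-4, 0, 4] _ cand_four (by simp [h0, h1]) fun k => ?_
    have h4 : (x : GolayPt → ℤ) (oPt k) % 4 ≠ 2 := fun h => hne ⟨oPt k, Finset.mem_filter.2 ⟨Finset.mem_univ _, h⟩⟩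
    have := hb (oPt k)
    have := heven (oPt k)
    simp only [List.mem_cons, List.not_mem_nil, or_false]
    omega

/-- The pairing of a root with a basis member. -/
def sg (i : Fin 126) (k : Fin 6) : ZMod 2 := if (sigTab.getD i.val 0).testBit k.val then 1 else 0

/-- The symplectic index. -/
def ix : Fin 3 ⊕ Fin 3 → Fin 6 := Sum.elim (fun i => ⟨i.val, by omega⟩) fun i => ⟨3 + i.val, by omega⟩

/-- A basis member. -/
def bI (k : Fin 6) : Fin 126 := Fin.ofNat 126 (basisList.getD k.val 0)

/-- The pairing modulo two. -/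
def bz (x y : leechLattice) : ZMod 2 := ((dotInt (x : GolayPt → ℤ) (y : GolayPt → ℤ) / 16 : ℤ) : ZMod 2)

theorem sig_check : ∀ (i : Fin 126) (k : Fin 6),
    (ldot (vl i.val) (vl (bI k).val) / 16) % 2 = if (sigTab.getD i.val 0).testBit k.val then 1 else 0 := by
  decide +kernel

/-- Parity of the symplectic product of two signatures. -/
def sigDot (a b : ℕ) : Bool :=
  (a.testBit 0 && b.testBit 3) ^^ (a.testBit 1 && b.testBit 4) ^^ (a.testBit 2 && b.testBit 5) ^^
    (a.testBit 3 && b.testBit 0) ^^ (a.testBit 4 && b.testBit 1) ^^ (a.testBit 5 && b.testBit 2)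

theorem pair_check : ∀ i j : Fin 126, (ldot (vl i.val) (vl j.val) / 16) % 2 =
    if sigDot (sigTab.getD i.val 0) (sigTab.getD j.val 0) then 1 else 0 := by decide +kernel

theorem bz_root (i j : Fin 126) : bz (root i) (root j) = (((ldot (vl i.val) (vl j.val) / 16) % 2 : ℤ) : ZMod 2) := by
  have hj := vl_length j.castSucc
  have hi := vl_length i.castSucc
  simp only [Fin.val_castSucc] at hi hj
  rw [bz, root_val, root_val, dot_vext hi hj, show (2 : ℤ) = ((2 : ℕ) : ℤ) from rfl, ZMod.intCast_mod]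

theorem bz_root_basis (i : Fin 126) (k : Fin 6) : bz (root i) (root (bI k)) = sg i k := by
  rw [bz_root, sig_check, sg]; split <;> simp

theorem bz_comm (x y : leechLattice) : bz x y = bz y x := by
  simp only [bz, dotInt, mul_comm]

/-- The pairing of roots is the symplectic product of their signatures. -/
theorem bz_expand (i j : Fin 126) :
    bz (root i) (root j) = sg i 0 * sg j 3 + sg i 1 * sg j 4 + sg i 2 * sg j 5 + sg i 3 * sg j 0 + sg i 4 * sg j 1 +
      sg i 5 * sg j 2 := by
  have key : ∀ (a0 a1 a2 a3 a4 a5 b0 b1 b2 b3 b4 b5 : Bool),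
      ((if ((a0 && b3) ^^ (a1 && b4) ^^ (a2 && b5) ^^ (a3 && b0) ^^ (a4 && b1) ^^ (a5 && b2)) then (1 : ℤ) else 0 : ℤ) : ZMod 2) =
      (if a0 then 1 else 0) * (if b3 then 1 else 0) + (if a1 then 1 else 0) * (if b4 then 1 else 0) +
        (if a2 then 1 else 0) * (if b5 then 1 else 0) + (if a3 then 1 else 0) * (if b0 then 1 else 0) +
        (if a4 then 1 else 0) * (if b1 then 1 else 0) + (if a5 then 1 else 0) * (if b2 then 1 else 0) := by
    decide +kernel
  rw [bz_root, pair_check]
  exact key _ _ _ _ _ _ _ _ _ _ _ _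

theorem sig_basis : ∀ k : Fin 6, sigTab.getD (bI k).val 0 = 2 ^ ((k.val + 3) % 6) := by decide +kernel

theorem sig_separates : ∀ i j : Fin 126, sigTab.getD i.val 0 = sigTab.getD j.val 0 →
    vl j.val = vl i.val ∨ vl j.val = (vl i.val).map Neg.neg := by decide +kernel

theorem sig_lt : ∀ i : Fin 126, sigTab.getD i.val 0 < 64 := by decide +kernel

theorem sig_ext {i j : Fin 126} (h : ∀ k, sg i k = sg j k) : sigTab.getD i.val 0 = sigTab.getD j.val 0 := by
  refine Nat.eq_of_testBit_eq fun n => ?_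
  by_cases hn : n < 6
  · have := h ⟨n, hn⟩
    simp only [sg] at this
    split at this <;> split at this <;> simp_all
  · have hle : 64 ≤ 2 ^ n := le_trans (by norm_num) (Nat.pow_le_pow_right (by norm_num) (show 6 ≤ n by omega))
    rw [Nat.testBit_lt_two_pow (lt_of_lt_of_le (sig_lt i) hle), Nat.testBit_lt_two_pow (lt_of_lt_of_le (sig_lt j) hle)]

theorem root_connected : ∀ i : Fin 126, ∃ k : Fin 126, ldot (vl 0) (vl k.val) ≠ 0 ∧ ldot (vl k.val) (vl i.val) ≠ 0 := by
  decide +kernel

end Cfsg.Lib.Co2Invol
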